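import Groth.Agent.CycPerf.Basic
import Groth.Agent.InsepLen.Basic
import Groth.Agent.Castel.GeomMult
import Groth.Agent.Weighting.Geom
import Mathlib.FieldTheory.Normal.Basic

/-!
Cycles invariant under the automorphisms of a finite normal extension descend.
-/

set_option autoImplicit false
set_option linter.style.haveILetI false
set_option linter.unusedSectionVars false
set_option backward.isDefEq.respectTransparency false

universe u

open CategoryTheory CategoryTheory.Limits AlgebraicGeometry TensorProduct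

noncomputable section

namespace Groth.Agent.CycNormalDesc

variable {k K : Type u} [Field k] [Field K] [Algebra k K] {X : Scheme.{u}} (f : X ⟶ Spec (CommRingCat.of k))

/-- The multiplicity of a point in its fibre. -/
abbrev mult (x' : ↥(pullback f (Spec.map (CommRingCat.ofHom (algebraMap k K))))) : ℕ :=
  (Module.length ((pullback f (Spec.map (CommRingCat.ofHom (algebraMap k K)))).presheaf.stalk x')
      ((pullback f (Spec.map (CommRingCat.ofHom (algebraMap k K)))).presheaf.stalk x' ⧸
        Ideal.map ((pullback.fst f (Spec.map (CommRingCat.ofHom (algebraMap k K)))).stalkMap x').hom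
          (IsLocalRing.maximalIdeal (X.presheaf.stalk
            (pullback.fst f (Spec.map (CommRingCat.ofHom (algebraMap k K))) x'))))).toNat

/-- Multiplicities in a finite extension divide the inseparable degree. -/
theorem mult_dvd [FiniteDimensional k K]
    (x' : ↥(pullback f (Spec.map (CommRingCat.ofHom (algebraMap k K))))) :
    mult f x' ∣ Field.finInsepDegree k K := by
  let g := Spec.map (CommRingCat.ofHom (algebraMap k K))
  let pr := pullback.fst f g
  let x := pr x'
  letI := (Spec.preimage (X.fromSpecResidueField x ≫ f)).hom.toAlgebra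
  let L := X.residueField x
  let Ω := AlgebraicClosure L
  have hφ : Spec.map (CommRingCat.ofHom (algebraMap k L)) = X.fromSpecResidueField x ≫ f := Spec.map_preimage _
  have h3 := (IsPullback.of_hasPullback pr (X.fromSpecResidueField x)).paste_horiz
    (IsPullback.of_hasPullback f g).flip
  rw [← hφ] at h3
  let gΩ : Spec (CommRingCat.of Ω) ⟶ Spec (CommRingCat.of L) := Spec.map (CommRingCat.ofHom (algebraMap L Ω))
  haveI : Surjective gΩ := ⟨fun y => ⟨Classical.arbitrary _, @Subsingleton.elim (PrimeSpectrum L) _ _ y⟩⟩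
  have h4 := (IsPullback.of_hasPullback (pr.fiberToSpecResidueField x) gΩ).paste_horiz h3
  rw [show gΩ ≫ Spec.map (CommRingCat.ofHom (algebraMap k L)) = Spec.map (CommRingCat.ofHom (algebraMap k Ω)) by
    rw [← Spec.map_comp, ← CommRingCat.ofHom_comp, ← IsScalarTower.algebraMap_eq]] at h4
  let u := pullback.fst (pr.fiberToSpecResidueField x) gΩ
  let e := h4.flip.isoPullback ≪≫ pullbackSpecIso k Ω K
  obtain ⟨w, hw⟩ := u.surjective (pr.asFiber x')
  have hlen : Module.length ((pullback (pr.fiberToSpecResidueField x) gΩ).presheaf.stalk w)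
      ((pullback (pr.fiberToSpecResidueField x) gΩ).presheaf.stalk w) = Field.finInsepDegree k K := by
    rw [← InsepLen.length_localization (K := Ω) (e.hom w).asIdeal]
    exact CycDim.length_congr ((asIso (e.hom.stalkMap w)).commRingCatIsoToRingEquiv.symm.trans
      (StructureSheaf.stalkIso (CommRingCat.of (Ω ⊗[k] K)) (e.hom w)).symm.toRingEquiv)
  have hd := Castel.length_stalk_dvd u w
  rw [hlen, ENat.toNat_coe, hw] at hd
  obtain ⟨e1⟩ := CMFlat.nonempty_fiberStalk_equiv pr x'
  have h5 : mult f x' = (Module.length ((pr.fiber x).presheaf.stalk (pr.asFiber x'))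
      ((pr.fiber x).presheaf.stalk (pr.asFiber x'))).toNat := by
    rw [mult, Module.length_eq_of_surjective (R := (pullback f g).presheaf.stalk x' ⧸ Ideal.map (pr.stalkMap x').hom (IsLocalRing.maximalIdeal (X.presheaf.stalk (pr x'))))
      (M := (pullback f g).presheaf.stalk x' ⧸ Ideal.map (pr.stalkMap x').hom (IsLocalRing.maximalIdeal (X.presheaf.stalk (pr x'))))
      (S := (pullback f g).presheaf.stalk x') Ideal.Quotient.mk_surjective]
    exact congrArg ENat.toNat (CycDim.length_congr e1)
  rwa [h5]

theorem mult_pos [FiniteDimensional k K]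
    (x' : ↥(pullback f (Spec.map (CommRingCat.ofHom (algebraMap k K))))) : 0 < mult f x' :=
  Nat.pos_of_dvd_of_pos (mult_dvd f x') (NeZero.pos _)

/-- Multiplicities are invariant under automorphisms over `X`. -/
theorem mult_eq_of_iso
    (t : pullback f (Spec.map (CommRingCat.ofHom (algebraMap k K))) ⟶
      pullback f (Spec.map (CommRingCat.ofHom (algebraMap k K)))) [IsIso t]
    (ht : t ≫ pullback.fst f _ = pullback.fst f _)
    (x' : ↥(pullback f (Spec.map (CommRingCat.ofHom (algebraMap k K))))) :
    mult f (t x') = mult f x' := by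
  let P := pullback f (Spec.map (CommRingCat.ofHom (algebraMap k K)))
  let multOf : ∀ (q : P ⟶ X), P → ℕ∞ := fun q a => Module.length (P.presheaf.stalk a)
    (P.presheaf.stalk a ⧸ Ideal.map (q.stalkMap a).hom (IsLocalRing.maximalIdeal (X.presheaf.stalk (q a))))
  have key : ∀ q : P ⟶ X, multOf (t ≫ q) x' = multOf q (t x') := fun q => by
    let I : Ideal (P.presheaf.stalk (t x')) :=
      Ideal.map (q.stalkMap (t x')).hom (IsLocalRing.maximalIdeal (X.presheaf.stalk (q (t x'))))
    let J : Ideal (P.presheaf.stalk x') :=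
      Ideal.map ((t ≫ q : P ⟶ X).stalkMap x').hom (IsLocalRing.maximalIdeal (X.presheaf.stalk ((t ≫ q : P ⟶ X) x')))
    let e := (asIso (t.stalkMap x')).commRingCatIsoToRingEquiv
    have hJ : J = I.map (e : P.presheaf.stalk (t x') →+* P.presheaf.stalk x') := by
      simp only [J, I, Scheme.Hom.stalkMap_comp, CommRingCat.hom_comp]
      exact (Ideal.map_map _ _).symm
    show Module.length (P.presheaf.stalk x') (P.presheaf.stalk x' ⧸ J) =
      Module.length (P.presheaf.stalk (t x')) (P.presheaf.stalk (t x') ⧸ I)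
    rw [Module.length_eq_of_surjective (R := P.presheaf.stalk x' ⧸ J) (M := P.presheaf.stalk x' ⧸ J)
        (S := P.presheaf.stalk x') (Ideal.Quotient.mk_surjective (I := J)),
      Module.length_eq_of_surjective (R := P.presheaf.stalk (t x') ⧸ I) (M := P.presheaf.stalk (t x') ⧸ I)
        (S := P.presheaf.stalk (t x')) (Ideal.Quotient.mk_surjective (I := I))]
    exact CycDim.length_congr (Ideal.quotientEquiv I J e hJ).symm
  have h := key (pullback.fst f _)
  rw [ht] at h
  exact (congrArg ENat.toNat h).symm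

/-- Geometric points above a point in a finite morphism, over a given geometric point. -/
theorem exists_lift_point {P : Scheme.{u}} (q : P ⟶ X) [IsFinite q] (y : P) (Ω : Type u) [Field Ω] [IsAlgClosed Ω]
    (c : X.residueField (q y) →+* Ω) :
    ∃ a : Spec (CommRingCat.of Ω) ⟶ P, a ≫ q = Spec.map (CommRingCat.ofHom c) ≫ X.fromSpecResidueField (q y) ∧
      ∀ z, a z = y := by
  have hfin : (q.residueFieldMap y).hom.Finite := Weighting.finite_residueFieldMap q y
  letI := (q.residueFieldMap y).hom.toAlgebra
  letI := c.toAlgebra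
  haveI : Module.Finite (X.residueField (q y)) (P.residueField y) := hfin
  haveI : Algebra.IsAlgebraic (X.residueField (q y)) (P.residueField y) := Algebra.IsAlgebraic.of_finite _ _
  let φ : P.residueField y →ₐ[X.residueField (q y)] Ω := IsAlgClosed.lift
  refine ⟨Spec.map (CommRingCat.ofHom φ.toRingHom) ≫ P.fromSpecResidueField y, ?_,
    fun z => (Scheme.Hom.comp_apply _ _ z).trans (Scheme.fromSpecResidueField_apply y _)⟩
  have e : CommRingCat.ofHom c = q.residueFieldMap y ≫ CommRingCat.ofHom φ.toRingHom := by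
    ext l
    exact (φ.commutes l).symm
  refine (Category.assoc _ _ _).trans ?_
  refine (congrArg (Spec.map (CommRingCat.ofHom φ.toRingHom) ≫ ·)
    (q.SpecMap_residueFieldMap_fromSpecResidueField y).symm).trans ?_
  refine (Category.assoc _ _ _).symm.trans ?_
  refine congrArg (· ≫ X.fromSpecResidueField (q y)) ?_
  exact ((Spec.map_comp _ _).symm.trans (congrArg Spec.map e.symm))

variable [Normal k K]

/-- The automorphisms act transitively on the fibres. -/
theorem exists_translate [FiniteDimensional k K]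
    (x₁ x₂ : ↥(pullback f (Spec.map (CommRingCat.ofHom (algebraMap k K)))))
    (h : pullback.fst f _ x₁ = pullback.fst f _ x₂) :
    ∃ (σ : K ≃ₐ[k] K) (t : pullback f (Spec.map (CommRingCat.ofHom (algebraMap k K))) ⟶
        pullback f (Spec.map (CommRingCat.ofHom (algebraMap k K)))) (_ : IsIso t),
      t ≫ pullback.fst f _ = pullback.fst f _ ∧
      t ≫ pullback.snd f _ = pullback.snd f _ ≫ Spec.map (CommRingCat.ofHom σ.toAlgHom.toRingHom) ∧
      t x₁ = x₂ := by
  let g := Spec.map (CommRingCat.ofHom (algebraMap k K))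
  let P := pullback f g
  let pr := pullback.fst f g
  haveI : IsFinite g := (IsFinite.SpecMap_iff (CommRingCat.ofHom (algebraMap k K))).2
    (RingHom.finite_algebraMap.2 inferInstance)
  haveI : IsFinite pr := inferInstance
  let x := pr x₂
  let L := X.residueField x
  let Ω := AlgebraicClosure L
  -- geometric points at the two points with the same image in `X`
  obtain ⟨a₁, ha₁', hz₁⟩ := exists_lift_point pr x₁ Ω
    ((algebraMap L Ω).comp (X.residueFieldCongr (h : pr x₁ = x)).hom.hom)
  obtain ⟨a₂, ha₂, hz₂⟩ := exists_lift_point pr x₂ Ω (algebraMap L Ω)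
  have ha₁ : a₁ ≫ pr = Spec.map (CommRingCat.ofHom (algebraMap L Ω)) ≫ X.fromSpecResidueField x := by
    rw [ha₁', CommRingCat.ofHom_comp, Spec.map_comp, CommRingCat.ofHom_hom, Category.assoc, Scheme.residueFieldCongr_fromSpecResidueField]
  letI : Algebra k Ω := (Spec.preimage
    ((Spec.map (CommRingCat.ofHom (algebraMap L Ω)) ≫ X.fromSpecResidueField x) ≫ f)).hom.toAlgebra
  have hk : Spec.map (CommRingCat.ofHom (algebraMap k Ω)) =
      (Spec.map (CommRingCat.ofHom (algebraMap L Ω)) ≫ X.fromSpecResidueField x) ≫ f := Spec.map_preimage _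
  have hψ : ∀ a : Spec (CommRingCat.of Ω) ⟶ P,
      a ≫ pr = Spec.map (CommRingCat.ofHom (algebraMap L Ω)) ≫ X.fromSpecResidueField x →
      ∃ ψ : K →ₐ[k] Ω, a ≫ pullback.snd f g = Spec.map (CommRingCat.ofHom ψ.toRingHom) := by
    intro a ha
    obtain ⟨φ, hφ⟩ := Spec.map_surjective (a ≫ pullback.snd f g)
    refine ⟨{ toRingHom := φ.hom, commutes' := fun c => ?_ }, hφ.symm⟩
    have h1 : CommRingCat.ofHom (algebraMap k K) ≫ φ = CommRingCat.ofHom (algebraMap k Ω) := Spec.map_injective (by
      rw [Spec.map_comp, hφ, hk, ← ha, Category.assoc, Category.assoc, pullback.condition])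
    exact congr($(h1).hom c)
  obtain ⟨ψ₁, hψ₁⟩ := hψ a₁ ha₁
  obtain ⟨ψ₂, hψ₂⟩ := hψ a₂ ha₂
  letI : Algebra K Ω := ψ₁.toRingHom.toAlgebra
  haveI : IsScalarTower k K Ω := IsScalarTower.of_algebraMap_eq fun c => (ψ₁.commutes c).symm
  let σ₀ : K →ₐ[k] K := ψ₂.restrictNormal K
  let σ : K ≃ₐ[k] K := AlgEquiv.ofBijective σ₀ (Algebra.IsAlgebraic.algHom_bijective σ₀)
  have hσ : ψ₁.toRingHom.comp σ.toAlgHom.toRingHom = ψ₂.toRingHom := RingHom.ext fun c =>
    ψ₂.restrictNormal_commutes K c
  have hcond : ∀ τ : K →ₐ[k] K, pullback.fst f g ≫ f =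
      (pullback.snd f g ≫ Spec.map (CommRingCat.ofHom τ.toRingHom)) ≫ g := fun τ => by
    rw [Category.assoc, ← Spec.map_comp, ← CommRingCat.ofHom_comp]
    erw [τ.comp_algebraMap]
    exact pullback.condition
  let t : P ⟶ P := pullback.lift (pullback.fst f g) (pullback.snd f g ≫ Spec.map (CommRingCat.ofHom σ.toAlgHom.toRingHom))
    (hcond σ.toAlgHom)
  let t' : P ⟶ P := pullback.lift (pullback.fst f g)
    (pullback.snd f g ≫ Spec.map (CommRingCat.ofHom σ.symm.toAlgHom.toRingHom)) (hcond σ.symm.toAlgHom)
  haveI : IsIso t := ⟨t', by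
    apply pullback.hom_ext
    · simp [t, t', g]
    · simp only [t, t', Category.assoc, pullback.lift_snd, pullback.lift_snd_assoc, Category.id_comp,
        ← Spec.map_comp, ← CommRingCat.ofHom_comp]
      rw [show σ.toAlgHom.toRingHom.comp σ.symm.toAlgHom.toRingHom = RingHom.id K from
        RingHom.ext σ.apply_symm_apply, CommRingCat.ofHom_id, Spec.map_id, Category.comp_id], by
    apply pullback.hom_ext
    · simp [t, t', g]
    · simp only [t, t', Category.assoc, pullback.lift_snd, pullback.lift_snd_assoc, Category.id_comp,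
        ← Spec.map_comp, ← CommRingCat.ofHom_comp]
      rw [show σ.symm.toAlgHom.toRingHom.comp σ.toAlgHom.toRingHom = RingHom.id K from
        RingHom.ext σ.symm_apply_apply, CommRingCat.ofHom_id, Spec.map_id, Category.comp_id]⟩
  refine ⟨σ, t, ‹_›, pullback.lift_fst _ _ _, pullback.lift_snd _ _ _, ?_⟩
  have e : a₁ ≫ t = a₂ := by
    apply pullback.hom_ext
    · rw [Category.assoc, pullback.lift_fst]; exact ha₁.trans ha₂.symm
    · rw [Category.assoc, pullback.lift_snd, reassoc_of% hψ₁, hψ₂, ← Spec.map_comp, ← CommRingCat.ofHom_comp, hσ]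
  let z : Spec (CommRingCat.of Ω) := IsLocalRing.closedPoint Ω
  rw [← hz₁ z, ← hz₂ z, ← Scheme.Hom.comp_apply, e]

/-- Invariant cycles descend, up to the inseparable degree. -/
theorem existsUnique_desc [FiniteDimensional k K] [QuasiCompact f]
    (Z' : AlgebraicCycle (pullback f (Spec.map (CommRingCat.ofHom (algebraMap k K)))) ℤ)
    (hZ' : ∀ (σ : K ≃ₐ[k] K)
      (t : pullback f (Spec.map (CommRingCat.ofHom (algebraMap k K))) ⟶
        pullback f (Spec.map (CommRingCat.ofHom (algebraMap k K)))),
      t ≫ pullback.fst f _ = pullback.fst f _ →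
      t ≫ pullback.snd f _ = pullback.snd f _ ≫ Spec.map (CommRingCat.ofHom σ.toAlgHom.toRingHom) →
      ∀ x', Z' (t.base x') = Z' x') :
    ∃! Z : AlgebraicCycle X ℤ, ∀ x' : ↥(pullback f (Spec.map (CommRingCat.ofHom (algebraMap k K)))),
      (Field.finInsepDegree k K : ℤ) * Z' x' =
        Cyc.pullFun (pullback.fst f (Spec.map (CommRingCat.ofHom (algebraMap k K))))
          (fun _ => 0) (fun _ => 0) 0 ⇑Z x' := by
  classical
  let g := Spec.map (CommRingCat.ofHom (algebraMap k K))
  let pr := pullback.fst f g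
  haveI : Surjective g := ⟨fun y => ⟨Classical.arbitrary _, @Subsingleton.elim (PrimeSpectrum k) _ _ y⟩⟩
  haveI : Surjective pr := inferInstance
  haveI : CompactSpace ↥(pullback f g) := by
    haveI : CompactSpace X := QuasiCompact.compactSpace_of_compactSpace f
    haveI : IsFinite g := (IsFinite.SpecMap_iff (CommRingCat.ofHom (algebraMap k K))).2
      (RingHom.finite_algebraMap.2 inferInstance)
    haveI : IsFinite pr := inferInstance
    exact QuasiCompact.compactSpace_of_compactSpace pr
  choose s hs using pr.surjective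
  have hval : ∀ (Z : AlgebraicCycle X ℤ) (x' : ↥(pullback f g)),
      Cyc.pullFun pr (fun _ => 0) (fun _ => 0) 0 ⇑Z x' = Z (pr x') * (mult f x' : ℤ) := fun Z x' =>
    if_pos (add_zero (0 : ℤ)).symm
  let F : X → ℤ := fun x => Z' (s x) * ((Field.finInsepDegree k K / mult f (s x) : ℕ) : ℤ)
  let Z : AlgebraicCycle X ℤ := CycLim.mkCycle F fun {U} _ =>
    ((CycLim.finite_support Z').image pr).subset fun x hx =>
      ⟨s x, fun h0 => hx.2 (by simp [F, h0]), hs x⟩
  refine ⟨Z, fun x' => ?_, fun W hW => ?_⟩
  · obtain ⟨σ, t, _, ht₁, ht₂, ht₃⟩ := exists_translate f (s (pr x')) x' (hs (pr x'))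
    have hm : mult f x' = mult f (s (pr x')) := by rw [← mult_eq_of_iso f t ht₁ (s (pr x')), ht₃]
    have hz : Z' x' = Z' (s (pr x')) := (congrArg Z' ht₃).symm.trans (hZ' σ t ht₁ ht₂ (s (pr x')))
    rw [hval, hm, hz]
    show _ = F (pr x') * _
    rw [mul_assoc, ← Nat.cast_mul, Nat.div_mul_cancel (mult_dvd f _), mul_comm]
  · refine Function.locallyFinsuppWithin.ext fun x => ?_
    have h := hW (s x)
    rw [hval, hs x] at h
    show W x = F x
    have hpos : (mult f (s x) : ℤ) ≠ 0 := by exact_mod_cast (mult_pos f (s x)).ne'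
    refine mul_right_cancel₀ hpos ?_
    rw [← h, mul_assoc, ← Nat.cast_mul, Nat.div_mul_cancel (mult_dvd f _), mul_comm]

end Groth.Agent.CycNormalDesc
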